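import Mathlib.GroupTheory.Sylow
import Mathlib.GroupTheory.Perm.Closure
import Mathlib.GroupTheory.Perm.Cycle.Type
import Mathlib.GroupTheory.SpecificGroups.Alternating

/-!
The transpositions of a Sylow `2`-subgroup `P` of a symmetric group pair off all points but at
most one, and `P` induces a Sylow `2`-subgroup of the symmetric group on this set of pairs.
Consequence: a Sylow `2`-subgroup of `Perm α` contains every element normalising it.
-/

namespace CfsgLib.SylTwoSelf

open Equiv Equiv.Perm
open scoped Pointwise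

universe u

variable {α : Type u} [DecidableEq α]

theorem eq_swap_of_moves {t : Perm α} (ht : t.IsSwap) {a : α} (h : t a ≠ a) :
    t = swap a (t a) := by
  obtain ⟨x, y, hxy, rfl⟩ := ht
  rcases eq_or_ne a x with rfl | hx
  · rw [swap_apply_left]
  · rcases eq_or_ne a y with rfl | hy
    · rw [swap_apply_right, swap_comm]
    · exact absurd (swap_apply_of_ne_of_ne hx hy) h

theorem conj_swap (g : Perm α) (x y : α) : g * swap x y * g⁻¹ = swap (g x) (g y) :=
  (Equiv.swap_apply_apply g x y).symm

theorem isSwap_conj {t : Perm α} (ht : t.IsSwap) (g : Perm α) : (g * t * g⁻¹).IsSwap := by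
  obtain ⟨x, y, hxy, rfl⟩ := ht
  exact ⟨g x, g y, fun h => hxy (g.injective h), conj_swap g x y⟩

theorem isSwap_sq {t : Perm α} (ht : t.IsSwap) : t * t = 1 := by
  obtain ⟨x, y, -, rfl⟩ := ht
  exact swap_mul_self x y

variable [Fintype α]

/-- The transpositions lying in `P`. -/
def pairs (P : Sylow 2 (Perm α)) : Set (Perm α) := {t | t ∈ P ∧ t.IsSwap}

variable {P : Sylow 2 (Perm α)}

theorem pairs_eq_of_moves {t t' : Perm α} (ht : t ∈ pairs P) (ht' : t' ∈ pairs P) {a : α}
    (h : t a ≠ a) (h' : t' a ≠ a) : t = t' := by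
  by_contra hne
  rw [eq_swap_of_moves ht.2 h, eq_swap_of_moves ht'.2 h'] at hne
  have hbc : t a ≠ t' a := fun e => hne (by rw [e])
  have h3 := (isThreeCycle_swap_mul_swap_same (Ne.symm h) (Ne.symm h') hbc).orderOf
  rw [← eq_swap_of_moves ht.2 h, ← eq_swap_of_moves ht'.2 h'] at h3
  have hm : t * t' ∈ (P : Subgroup (Perm α)) := mul_mem ht.1 ht'.1
  obtain ⟨k, hk⟩ := IsPGroup.iff_orderOf.mp P.2 ⟨t * t', hm⟩
  rw [Subgroup.orderOf_mk, h3] at hk
  rcases k with - | k
  · simp at hk
  · rw [pow_succ] at hk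
    omega

theorem pairs_disjoint {t t' : Perm α} (ht : t ∈ pairs P) (ht' : t' ∈ pairs P) (hne : t ≠ t') :
    Perm.Disjoint t t' := by
  intro x
  by_contra h
  rw [not_or] at h
  exact hne (pairs_eq_of_moves ht ht' h.1 h.2)

/-- The permutations preserving the set of transpositions of `P`. -/
def pairStab (P : Sylow 2 (Perm α)) : Subgroup (Perm α) where
  carrier := {g | ∀ t, t ∈ pairs P ↔ g * t * g⁻¹ ∈ pairs P}
  one_mem' := fun t => by simp
  mul_mem' := by
    intro g h hg hh t
    rw [hh t, hg (h * t * h⁻¹)]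
    simp [mul_assoc]
  inv_mem' := by
    intro g hg t
    rw [hg (g⁻¹ * t * g⁻¹⁻¹)]
    simp [mul_assoc]

theorem normalizer_le_pairStab :
    Subgroup.normalizer ((P : Subgroup (Perm α)) : Set (Perm α)) ≤ pairStab P := by
  intro g hg t
  rw [Subgroup.mem_normalizer_iff] at hg
  constructor
  · exact fun ht => ⟨(hg t).mp ht.1, isSwap_conj ht.2 g⟩
  · intro ht
    refine ⟨(hg t).mpr ht.1, ?_⟩
    have := isSwap_conj ht.2 g⁻¹
    simpa [mul_assoc] using this

theorem le_pairStab : (P : Subgroup (Perm α)) ≤ pairStab P :=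
  Subgroup.le_normalizer.trans normalizer_le_pairStab

/-- `a` is moved by a transposition of `P`. -/
def Covered (P : Sylow 2 (Perm α)) (a : α) : Prop := ∃ t ∈ pairs P, t a ≠ a

theorem covered_apply {g : Perm α} (hg : g ∈ pairStab P) {a : α} (ha : Covered P a) :
    Covered P (g a) := by
  obtain ⟨t, ht, hta⟩ := ha
  refine ⟨g * t * g⁻¹, (hg t).mp ht, ?_⟩
  simpa using fun h => hta h

theorem covered_apply_iff {g : Perm α} (hg : g ∈ pairStab P) {a : α} :
    Covered P (g a) ↔ Covered P a := by
  refine ⟨fun h => ?_, covered_apply hg⟩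
  simpa using covered_apply ((pairStab P).inv_mem hg) h

theorem uncovered_unique {a b : α} (ha : ¬ Covered P a) (hb : ¬ Covered P b) : a = b := by
  by_contra hab
  have hfix : ∀ t ∈ pairs P, t a = a ∧ t b = b := fun t ht =>
    ⟨by_contra fun h => ha ⟨t, ht, h⟩, by_contra fun h => hb ⟨t, ht, h⟩⟩
  have hcomm : ∀ t ∈ pairs P, swap a b * t * (swap a b)⁻¹ = t := by
    intro t ht
    obtain ⟨x, y, hxy, rfl⟩ := ht.2
    obtain ⟨h1, h2⟩ := hfix _ ht
    rw [conj_swap]
    have hx : ∀ z : α, swap x y z = z → z ≠ x ∧ z ≠ y := by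
      intro z hz
      constructor <;> rintro rfl
      · rw [swap_apply_left] at hz
        exact hxy hz.symm
      · rw [swap_apply_right] at hz
        exact hxy hz
    rw [swap_apply_of_ne_of_ne (hx a h1).1.symm (hx b h2).1.symm,
      swap_apply_of_ne_of_ne (hx a h1).2.symm (hx b h2).2.symm]
  have hs : swap a b ∈ pairStab P := by
    intro t
    constructor
    · intro ht
      rwa [hcomm t ht]
    · intro ht
      have h2 := hcomm _ ht
      simp only [swap_inv] at h2 ht
      have h3 : swap a b * (swap a b * t * swap a b) * swap a b = t := by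
        simp [← mul_assoc]
      rw [h3] at h2
      rwa [← h2] at ht
  have hord : orderOf (⟨swap a b, hs⟩ : pairStab P) = 2 := by
    rw [Subgroup.orderOf_mk]
    exact orderOf_eq_prime (by rw [pow_two, swap_mul_self]) (by simp [Equiv.Perm.one_def, Equiv.swap_eq_refl_iff, hab])
  have hT : IsPGroup 2 (Subgroup.zpowers (⟨swap a b, hs⟩ : pairStab P)) :=
    IsPGroup.of_card (n := 1) (by rw [Nat.card_zpowers, hord, pow_one])
  obtain ⟨Q, hQ⟩ := hT.exists_le_sylow
  obtain ⟨s, hsQ⟩ := MulAction.exists_smul_eq (pairStab P) (P.subtype le_pairStab) Q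
  have hmem := hQ (Subgroup.mem_zpowers (⟨swap a b, hs⟩ : pairStab P))
  rw [← hsQ, Sylow.coe_subgroup_smul, Subgroup.mem_pointwise_smul_iff_inv_smul_mem,
    Sylow.coe_subtype, Subgroup.mem_subgroupOf] at hmem
  have hmem' : (s : Perm α)⁻¹ * swap a b * (s : Perm α) ∈ (P : Subgroup (Perm α)) := by
    simpa [MulAut.smul_def] using hmem
  have hsi : (s : Perm α)⁻¹ ∈ pairStab P := (pairStab P).inv_mem s.2
  have hc : (s : Perm α)⁻¹ * swap a b * (s : Perm α) =
      swap ((s : Perm α)⁻¹ a) ((s : Perm α)⁻¹ b) := by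
    rw [← conj_swap, inv_inv]
  rw [hc] at hmem'
  refine ha ((covered_apply_iff hsi).mp ⟨_, ⟨hmem', ⟨_, _, fun h => hab ?_, rfl⟩⟩, ?_⟩)
  · exact ((s : Perm α)⁻¹).injective h
  · rw [swap_apply_left]
    exact fun h => hab (((s : Perm α)⁻¹).injective h).symm

/-- The induced permutation of the pairs. -/
def pairHom (P : Sylow 2 (Perm α)) : pairStab P →* Perm (pairs P) where
  toFun g :=
    { toFun := fun t => ⟨(g : Perm α) * t * (g : Perm α)⁻¹, (g.2 t).mp t.2⟩
      invFun := fun t => ⟨(g : Perm α)⁻¹ * t * (g : Perm α), by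
        have := ((pairStab P).inv_mem g.2 t).mp t.2
        simpa using this⟩
      left_inv := fun t => Subtype.ext (by simp [mul_assoc])
      right_inv := fun t => Subtype.ext (by simp [mul_assoc]) }
  map_one' := by
    ext t : 2
    simp
  map_mul' g h := by
    ext t : 2
    simp [mul_assoc]

theorem pairHom_apply (g : pairStab P) (t : pairs P) :
    ((pairHom P g t : pairs P) : Perm α) = (g : Perm α) * t * (g : Perm α)⁻¹ := rfl

theorem pairHom_pair (t : pairs P) :
    pairHom P ⟨t, le_pairStab t.2.1⟩ = 1 := by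
  ext u : 2
  rw [pairHom_apply, Perm.one_apply]
  rcases eq_or_ne (t : Perm α) u with h | h
  · simp [h]
  · rw [(pairs_disjoint t.2 u.2 h).commute.eq, mul_inv_cancel_right]

theorem pairHom_surjective : Function.Surjective (pairHom P) := by
  classical
  rw [← MonoidHom.range_eq_top, eq_top_iff, ← Equiv.Perm.closure_isSwap, Subgroup.closure_le]
  rintro _ ⟨t, t', htt', rfl⟩
  obtain ⟨a, b, hab, het⟩ := t.2.2
  obtain ⟨c, d, hcd, het'⟩ := t'.2.2
  have hne : (t : Perm α) ≠ t' := fun h => htt' (Subtype.ext h)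
  have hdis : ∀ x, (t : Perm α) x ≠ x → (t' : Perm α) x = x := fun x hx =>
    (pairs_disjoint t.2 t'.2 hne x).resolve_left hx
  have ha : a ≠ c ∧ a ≠ d := by
    have h := hdis a (by rw [het, swap_apply_left]; exact hab.symm)
    rw [het'] at h
    constructor <;> rintro rfl
    · rw [swap_apply_left] at h
      exact hcd h.symm
    · rw [swap_apply_right] at h
      exact hcd h
  have hb : b ≠ c ∧ b ≠ d := by
    have h := hdis b (by rw [het, swap_apply_right]; exact hab)
    rw [het'] at h
    constructor <;> rintro rfl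
    · rw [swap_apply_left] at h
      exact hcd h.symm
    · rw [swap_apply_right] at h
      exact hcd h
  set σ : Perm α := swap a c * swap b d with hσ
  have σa : σ a = c := by
    rw [hσ, Perm.mul_apply, swap_apply_of_ne_of_ne hab ha.2, swap_apply_left]
  have σb : σ b = d := by
    rw [hσ, Perm.mul_apply, swap_apply_left, swap_apply_of_ne_of_ne ha.2.symm hcd.symm]
  have σc : σ c = a := by
    rw [hσ, Perm.mul_apply, swap_apply_of_ne_of_ne hb.1.symm hcd, swap_apply_right]
  have σd : σ d = b := by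
    rw [hσ, Perm.mul_apply, swap_apply_right, swap_apply_of_ne_of_ne hab.symm hb.1]
  have σf : ∀ x, x ≠ a → x ≠ b → x ≠ c → x ≠ d → σ x = x := by
    intro x h1 h2 h3 h4
    rw [hσ, Perm.mul_apply, swap_apply_of_ne_of_ne h2 h4, swap_apply_of_ne_of_ne h1 h3]
  have hconj : ∀ u ∈ pairs P, σ * u * σ⁻¹ =
      if u = (t : Perm α) then (t' : Perm α) else if u = (t' : Perm α) then (t : Perm α) else u := by
    intro u hu
    split_ifs with h1 h2
    · rw [h1, het, het', conj_swap, σa, σb]
    · rw [h2, het, het', conj_swap, σc, σd]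
    · obtain ⟨x, y, hxy, rfl⟩ := hu.2
      have key : ∀ z, swap x y z ≠ z → σ z = z := by
        intro z hz
        have hzt : (t : Perm α) z = z := by
          by_contra h
          exact h1 (pairs_eq_of_moves hu t.2 hz h)
        have hzt' : (t' : Perm α) z = z := by
          by_contra h
          exact h2 (pairs_eq_of_moves hu t'.2 hz h)
        rw [het] at hzt
        rw [het'] at hzt'
        refine σf z ?_ ?_ ?_ ?_ <;> rintro rfl
        · rw [swap_apply_left] at hzt; exact hab hzt.symm
        · rw [swap_apply_right] at hzt; exact hab hzt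
        · rw [swap_apply_left] at hzt'; exact hcd hzt'.symm
        · rw [swap_apply_right] at hzt'; exact hcd hzt'
      rw [conj_swap, key x (by rw [swap_apply_left]; exact hxy.symm),
        key y (by rw [swap_apply_right]; exact hxy)]
  have hmem : ∀ u ∈ pairs P, σ * u * σ⁻¹ ∈ pairs P := by
    intro u hu
    rw [hconj u hu]
    split_ifs <;> first | exact t'.2 | exact t.2 | exact hu
  have hinv : σ⁻¹ = σ := by
    rw [inv_eq_iff_mul_eq_one]
    ext x
    rw [Perm.mul_apply, Perm.one_apply]
    by_cases h1 : x = a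
    · rw [h1, σa, σc]
    by_cases h2 : x = b
    · rw [h2, σb, σd]
    by_cases h3 : x = c
    · rw [h3, σc, σa]
    by_cases h4 : x = d
    · rw [h4, σd, σb]
    rw [σf x h1 h2 h3 h4, σf x h1 h2 h3 h4]
  have hσs : σ ∈ pairStab P := by
    intro u
    refine ⟨hmem u, fun hu => ?_⟩
    have h := hmem _ hu
    have hsq : σ * σ = 1 := by
      nth_rewrite 2 [← hinv]
      exact mul_inv_cancel σ
    have e : σ * (σ * u * σ⁻¹) * σ⁻¹ = u := by
      rw [show σ * (σ * u * σ⁻¹) * σ⁻¹ = (σ * σ) * u * (σ * σ)⁻¹ by group, hsq, one_mul,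
        inv_one, mul_one]
    rwa [e] at h
  refine ⟨⟨σ, hσs⟩, ?_⟩
  ext u : 2
  rw [pairHom_apply, hconj _ u.2, swap_apply_def]
  split_ifs <;> simp_all [Subtype.ext_iff]

/-- A point moved by a pair. -/
noncomputable def pairPoint (t : pairs P) : α := t.2.2.choose

theorem pairPoint_moved (t : pairs P) : (t : Perm α) (pairPoint t) ≠ pairPoint t := by
  obtain ⟨h, e⟩ := t.2.2.choose_spec.choose_spec
  unfold pairPoint
  nth_rewrite 1 [e]
  rw [swap_apply_left]
  exact h.symm

theorem card_pairs_lt [Nonempty α] : Nat.card (pairs P) < Fintype.card α := by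
  classical
  rcases isEmpty_or_nonempty (pairs P) with h | ⟨⟨t0⟩⟩
  · rw [Nat.card_of_isEmpty]
    exact Fintype.card_pos
  · rw [Nat.card_eq_fintype_card]
    refine Fintype.card_lt_of_injective_of_notMem (fun t => pairPoint t) ?_
      (b := (t0 : Perm α) (pairPoint t0)) ?_
    · intro t t' h
      exact Subtype.ext (pairs_eq_of_moves t.2 t'.2 (pairPoint_moved t)
        (by simp only at h; rw [h]; exact pairPoint_moved t'))
    · rintro ⟨t1, h⟩
      simp only at h
      have hm : (t0 : Perm α) ((t0 : Perm α) (pairPoint t0)) ≠ (t0 : Perm α) (pairPoint t0) :=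
        fun e => pairPoint_moved t0 ((t0 : Perm α).injective e)
      have he : t1 = t0 := Subtype.ext (pairs_eq_of_moves t1.2 t0.2 (pairPoint_moved t1)
        (by rw [h]; exact hm))
      subst he
      exact pairPoint_moved t1 h.symm

theorem card_le_two_pairs [Nonempty α] : Fintype.card α ≤ 2 * Nat.card (pairs P) + 1 := by
  classical
  let z : α := if h : ∃ a, ¬ Covered P a then h.choose else Classical.arbitrary α
  let f : (pairs P × Bool) ⊕ Unit → α := Sum.elim
    (fun q => bif q.2 then pairPoint q.1 else (q.1 : Perm α) (pairPoint q.1)) (fun _ => z)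
  have hf : Function.Surjective f := by
    intro a
    by_cases ha : Covered P a
    · obtain ⟨t, ht, hta⟩ := ha
      have e := eq_swap_of_moves ht.2 (pairPoint_moved ⟨t, ht⟩)
      by_cases h1 : a = pairPoint ⟨t, ht⟩
      · exact ⟨Sum.inl (⟨t, ht⟩, true), by simp [f, h1]⟩
      by_cases h2 : a = t (pairPoint ⟨t, ht⟩)
      · exact ⟨Sum.inl (⟨t, ht⟩, false), by simp [f, h2]⟩
      rw [e, swap_apply_of_ne_of_ne h1 h2] at hta
      exact absurd rfl hta
    · refine ⟨Sum.inr (), ?_⟩
      have hex : ∃ a, ¬ Covered P a := ⟨a, ha⟩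
      simp only [f, z, Sum.elim_inr, dif_pos hex]
      exact uncovered_unique hex.choose_spec ha
  have := Nat.card_le_card_of_surjective f hf
  rw [Nat.card_sum, Nat.card_prod, Nat.card_eq_fintype_card, Nat.card_eq_fintype_card (α := Bool),
    Nat.card_eq_fintype_card (α := Unit), Fintype.card_bool, Fintype.card_unit] at this
  omega

theorem mul_self_of_pairHom_eq_one {g : pairStab P} (h : pairHom P g = 1) :
    (g : Perm α) * g = 1 := by
  have hfix : ∀ t ∈ pairs P, (g : Perm α) * t * (g : Perm α)⁻¹ = t := by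
    intro t ht
    have := congrArg (fun σ : Perm (pairs P) => ((σ ⟨t, ht⟩ : pairs P) : Perm α)) h
    simpa [pairHom_apply] using this
  have hfix' : ∀ t ∈ pairs P, ∀ x, (g : Perm α) (t x) = t ((g : Perm α) x) := by
    intro t ht x
    have := congrArg (fun σ : Perm α => σ ((g : Perm α) x)) (hfix t ht)
    simpa using this
  ext x
  rw [Perm.mul_apply, Perm.one_apply]
  by_cases hx : Covered P x
  · obtain ⟨t, ht, htx⟩ := hx
    have e := eq_swap_of_moves ht.2 htx
    have htt : t (t x) = x := by
      rw [← Perm.mul_apply, isSwap_sq ht.2, Perm.one_apply]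
    have hgm : t ((g : Perm α) x) ≠ (g : Perm α) x := by
      rw [← hfix' t ht x]
      exact fun h => htx ((g : Perm α).injective h)
    by_cases h1 : (g : Perm α) x = x
    · rw [h1, h1]
    by_cases h2 : (g : Perm α) x = t x
    · rw [h2, hfix' t ht x, h2, htt]
    exact absurd (by rw [e, swap_apply_of_ne_of_ne h1 h2]) hgm
  · have := uncovered_unique (mt (covered_apply_iff g.2).mp hx) hx
    rw [this, this]

theorem eq_one_of_sq_of_odd {G : Type*} [Group G] {g : G} (h : g * g = 1)
    (ho : Odd (orderOf g)) : g = 1 := by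
  rw [← orderOf_eq_one_iff]
  have h2 : orderOf g ∣ 2 := orderOf_dvd_of_pow_eq_one (by rw [pow_two, h])
  rcases (Nat.dvd_prime Nat.prime_two).mp h2 with h1 | h1
  · exact h1
  · rw [h1] at ho
    exact absurd ho (by decide)

theorem odd_order_normalizer_eq_one_aux : ∀ (n : ℕ) (α : Type u) [Fintype α] [DecidableEq α],
    Fintype.card α = n → ∀ (P : Sylow 2 (Perm α)) (g : Perm α),
      g ∈ Subgroup.normalizer ((P : Subgroup (Perm α)) : Set (Perm α)) →
        Odd (orderOf g) → g = 1 := by
  intro n
  induction n using Nat.strong_induction_on with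
  | _ n IH =>
  intro α _ _ hn P g hg ho
  classical
  rcases isEmpty_or_nonempty α with he | hne
  · exact Subsingleton.elim _ _
  let g' : pairStab P := ⟨g, normalizer_le_pairStab hg⟩
  haveI : Fact (Nat.Prime 2) := ⟨Nat.prime_two⟩
  let Q := (P.subtype le_pairStab).mapSurjective (pairHom_surjective (P := P))
  have hQ : pairHom P g' ∈ Subgroup.normalizer ((Q : Subgroup (Perm (pairs P))) : Set _) := by
    rw [Sylow.coe_mapSurjective]
    apply Subgroup.le_normalizer_map
    refine ⟨g', ?_, rfl⟩
    rw [SetLike.mem_coe, Subgroup.mem_normalizer_iff]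
    intro x
    rw [Sylow.coe_subtype, Subgroup.mem_subgroupOf, Subgroup.mem_subgroupOf]
    exact (Subgroup.mem_normalizer_iff.mp hg) x
  have ho' : Odd (orderOf (pairHom P g')) :=
    Odd.of_dvd_nat (by rw [← Subgroup.orderOf_coe g']; exact ho) (orderOf_map_dvd (pairHom P) g')
  haveI : Fintype (pairs P) := Fintype.ofFinite _
  have h1 : pairHom P g' = 1 := IH _ (hn ▸ card_pairs_lt (P := P)) (pairs P)
    Nat.card_eq_fintype_card.symm Q _ hQ ho'
  exact eq_one_of_sq_of_odd (mul_self_of_pairHom_eq_one h1) ho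

theorem odd_order_normalizer_eq_one {P : Sylow 2 (Perm α)} {g : Perm α}
    (hg : g ∈ Subgroup.normalizer ((P : Subgroup (Perm α)) : Set (Perm α)))
    (ho : Odd (orderOf g)) : g = 1 :=
  odd_order_normalizer_eq_one_aux _ α rfl P g hg ho

end CfsgLib.SylTwoSelf
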