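import Cfsg.Agent.Lib.Perm.SylowTwoSelfNorm.Pairs
import Mathlib.GroupTheory.Index

/-!
A Sylow `2`-subgroup of `alternatingGroup α` is its own normaliser for `6 ≤ card α`.
-/

namespace CfsgLib.SylTwoSelf

open Equiv Equiv.Perm

universe u

variable {α : Type u} [DecidableEq α] [Fintype α] {P : Sylow 2 (Perm α)}

theorem swap_mul_swap_mem_alt {t u : Perm α} (ht : t.IsSwap) (hu : u.IsSwap) :
    t * u ∈ alternatingGroup α := by
  rw [mem_alternatingGroup, map_mul, ht.sign_eq, hu.sign_eq]
  decide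

/-- A transposition lying in two different double transpositions of `P`. -/
def Good (P : Sylow 2 (Perm α)) (t : Perm α) : Prop :=
  t.IsSwap ∧ ∃ u u' : Perm α, u.IsSwap ∧ u'.IsSwap ∧ u ≠ u' ∧
    Perm.Disjoint t u ∧ Perm.Disjoint t u' ∧ t * u ∈ P ∧ t * u' ∈ P

theorem partner_unique {a c : α} (hac : a ≠ c) (ht : swap a c ∉ pairs P) :
    ∃ w : Perm α, ∀ u : Perm α, u.IsSwap → Perm.Disjoint (swap a c) u →
      swap a c * u ∈ P → u = w := by
  by_cases hw : ∃ u : Perm α, u.IsSwap ∧ Perm.Disjoint (swap a c) u ∧ swap a c * u ∈ P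
  swap
  · exact ⟨1, fun u h1 h2 h3 => absurd ⟨u, h1, h2, h3⟩ hw⟩
  have main : ∀ u : Perm α, u.IsSwap → Perm.Disjoint (swap a c) u → swap a c * u ∈ P →
      ∃ m ∈ pairs P, ∃ m' ∈ pairs P, m a ≠ a ∧ m' c ≠ c ∧ u = swap (m a) (m' c) := by
    intro u hu hd hx
    have hua : u a = a := (hd a).resolve_left (by rw [swap_apply_left]; exact hac.symm)
    have huc : u c = c := (hd c).resolve_left (by rw [swap_apply_right]; exact hac)
    have hxs : swap a c * u ∈ pairStab P := le_pairStab hx
    have hxa : (swap a c * u) a = c := by rw [Perm.mul_apply, hua, swap_apply_left]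
    have hca : Covered P a := by
      by_contra h
      have h' := (covered_apply_iff hxs (a := a)).not.mpr h
      rw [hxa] at h'
      exact hac (uncovered_unique h h')
    obtain ⟨m, hm, hma⟩ := hca
    set b := m a with hb
    have hbc : b ≠ c := by
      intro e
      apply ht
      have hm2 := eq_swap_of_moves hm.2 hma
      rw [← hb, e] at hm2
      exact hm2 ▸ hm
    have hxm := (hxs m).mp hm
    have hm'c : ((swap a c * u) * m * (swap a c * u)⁻¹) c = (swap a c * u) b := by
      have e : (swap a c * u)⁻¹ c = a := by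
        rw [Perm.inv_eq_iff_eq, hxa]
      rw [Perm.mul_apply, Perm.mul_apply, e]
    set m' := (swap a c * u) * m * (swap a c * u)⁻¹ with hm'
    have hub : u b ≠ a ∧ u b ≠ c :=
      ⟨fun e => hma (u.injective (by rw [e, hua]) : b = a),
       fun e => hbc (u.injective (by rw [e, huc]))⟩
    have hxb : (swap a c * u) b = u b := by
      rw [Perm.mul_apply, swap_apply_of_ne_of_ne hub.1 hub.2]
    rw [hxb] at hm'c
    refine ⟨m, hm, m', hxm, hma, by rw [hm'c]; exact hub.2, ?_⟩
    have hne : u b ≠ b := by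
      intro e
      rw [e] at hm'c
      have h1 : m' b ≠ b := by
        intro e2
        exact hbc (m'.injective (hm'c.trans e2.symm)).symm
      have h2 : m b ≠ b := fun e2 => hma (m.injective e2)
      have he := pairs_eq_of_moves hxm hm h1 h2
      rw [he, eq_swap_of_moves hm.2 hma, swap_apply_of_ne_of_ne hac.symm hbc.symm] at hm'c
      exact hbc hm'c.symm
    rw [hm'c]
    exact eq_swap_of_moves hu hne
  obtain ⟨u₀, h1, h2, h3⟩ := hw
  refine ⟨u₀, fun u g1 g2 g3 => ?_⟩
  obtain ⟨m, hm, m', hm', hma, hmc, rfl⟩ := main u g1 g2 g3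
  obtain ⟨n, hn, n', hn', hna, hnc, rfl⟩ := main u₀ h1 h2 h3
  rw [pairs_eq_of_moves hm hn hma hna, pairs_eq_of_moves hm' hn' hmc hnc]

theorem mem_pairs_iff_good (h6 : 6 ≤ Fintype.card α) (t : Perm α) :
    t ∈ pairs P ↔ Good P t := by
  classical
  constructor
  · intro ht
    haveI : Nonempty α := Fintype.card_pos_iff.mp (by omega)
    have hc : 3 ≤ Nat.card (pairs P) := by
      have := card_le_two_pairs (P := P)
      omega
    have h2 : 1 < (Finset.univ.erase (⟨t, ht⟩ : pairs P)).card := by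
      rw [Finset.card_erase_of_mem (Finset.mem_univ _), Finset.card_univ, ← Nat.card_eq_fintype_card]
      change 1 < Nat.card (pairs P) - 1
      omega
    obtain ⟨u, hu, u', hu', hne⟩ := Finset.one_lt_card.mp h2
    have hu1 : t ≠ (u : Perm α) := fun e => (Finset.mem_erase.mp hu).1 (Subtype.ext e.symm)
    have hu1' : t ≠ (u' : Perm α) := fun e => (Finset.mem_erase.mp hu').1 (Subtype.ext e.symm)
    exact ⟨ht.2, u, u', u.2.2, u'.2.2, fun e => hne (Subtype.ext e),
      pairs_disjoint ht u.2 hu1, pairs_disjoint ht u'.2 hu1',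
      mul_mem ht.1 u.2.1, mul_mem ht.1 u'.2.1⟩
  · rintro ⟨hs, u, u', hu, hu', hne, hd, hd', hm, hm'⟩
    by_contra h
    obtain ⟨a, c, hac, rfl⟩ := hs
    obtain ⟨w, hw⟩ := partner_unique hac h
    exact hne ((hw u hu hd hm).trans (hw u' hu' hd' hm').symm)

theorem good_conj {g t : Perm α}
    (hg : ∀ x ∈ alternatingGroup α, x ∈ P → g * x * g⁻¹ ∈ P) (ht : Good P t) :
    Good P (g * t * g⁻¹) := by
  obtain ⟨hs, u, u', hu, hu', hne, hd, hd', hm, hm'⟩ := ht
  have e : ∀ v : Perm α, g * t * g⁻¹ * (g * v * g⁻¹) = g * (t * v) * g⁻¹ := fun v => by group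
  refine ⟨isSwap_conj hs g, g * u * g⁻¹, g * u' * g⁻¹, isSwap_conj hu g, isSwap_conj hu' g,
    fun h => hne (by simpa using h), hd.conj g, hd'.conj g, ?_, ?_⟩
  · rw [e]
    exact hg _ (swap_mul_swap_mem_alt hs hu) hm
  · rw [e]
    exact hg _ (swap_mul_swap_mem_alt hs hu') hm'

theorem normalizer_alt_eq (h6 : 6 ≤ Fintype.card α) (R : Sylow 2 (alternatingGroup α)) :
    Subgroup.normalizer ((R : Subgroup (alternatingGroup α)) : Set (alternatingGroup α)) =
      (R : Subgroup (alternatingGroup α)) := by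
  classical
  haveI : Fact (Nat.Prime 2) := ⟨Nat.prime_two⟩
  haveI : Nonempty α := Fintype.card_pos_iff.mp (by omega)
  obtain ⟨P, hP⟩ := (R.2.map (alternatingGroup α).subtype).exists_le_sylow
  have hR : ∀ x : alternatingGroup α, x ∈ R ↔ (x : Perm α) ∈ P := by
    have := R.3 (P.2.comap_subtype (K := alternatingGroup α))
      (Subgroup.map_le_iff_le_comap.mp hP)
    intro x
    rw [← SetLike.mem_coe]
    show x ∈ (R : Subgroup (alternatingGroup α)) ↔ _
    rw [← this]
    rfl
  have hodd : ∀ g : alternatingGroup α,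
      g ∈ Subgroup.normalizer ((R : Subgroup (alternatingGroup α)) : Set (alternatingGroup α)) →
        Odd (orderOf g) → g = 1 := by
    intro g hg ho
    have hconj : ∀ g : alternatingGroup α,
        g ∈ Subgroup.normalizer ((R : Subgroup (alternatingGroup α)) : Set (alternatingGroup α)) →
        ∀ x ∈ alternatingGroup α, x ∈ P → (g : Perm α) * x * (g : Perm α)⁻¹ ∈ P := by
      intro g hg x hx hxP
      have := (Subgroup.mem_normalizer_iff.mp hg ⟨x, hx⟩).mp ((hR ⟨x, hx⟩).mpr hxP)
      simpa using (hR _).mp this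
    have hgi := Subgroup.inv_mem _ hg
    have hs : (g : Perm α) ∈ pairStab P := by
      intro t
      rw [mem_pairs_iff_good h6, mem_pairs_iff_good h6]
      refine ⟨good_conj (hconj g hg), fun h => ?_⟩
      have := good_conj (hconj g⁻¹ hgi) h
      simpa [mul_assoc] using this
    let Q := (P.subtype le_pairStab).mapSurjective (pairHom_surjective (P := P))
    obtain ⟨⟨t₀, ht₀⟩⟩ : Nonempty (pairs P) := by
      by_contra h
      rw [not_nonempty_iff] at h
      have := card_le_two_pairs (P := P)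
      rw [Nat.card_of_isEmpty] at this
      omega
    have one_side : ∀ k : pairStab P,
        (∀ x ∈ alternatingGroup α, x ∈ P → (k : Perm α) * x * (k : Perm α)⁻¹ ∈ P) →
        ∀ y ∈ (Q : Subgroup (Perm (pairs P))), pairHom P k * y * (pairHom P k)⁻¹ ∈ Q := by
      intro k hk y hy
      rw [Sylow.coe_mapSurjective, Sylow.coe_subtype] at hy
      obtain ⟨x, hx, rfl⟩ := hy
      rw [SetLike.mem_coe, Subgroup.mem_subgroupOf] at hx
      suffices ∃ x' : pairStab P, (x' : Perm α) ∈ P ∧ (x' : Perm α) ∈ alternatingGroup α ∧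
          pairHom P x' = pairHom P x by
        obtain ⟨x', h1, h2, h3⟩ := this
        rw [← h3, ← map_inv, ← map_mul, ← map_mul]
        show pairHom P (k * x' * k⁻¹) ∈ (Q : Subgroup (Perm (pairs P)))
        rw [Sylow.coe_mapSurjective, Sylow.coe_subtype]
        refine Subgroup.mem_map_of_mem _ ?_
        rw [Subgroup.mem_subgroupOf]
        exact hk _ h2 h1
      rcases Int.units_eq_one_or (Perm.sign (x : Perm α)) with h | h
      · exact ⟨x, hx, mem_alternatingGroup.mpr h, rfl⟩
      · refine ⟨x * ⟨t₀, le_pairStab ht₀.1⟩, mul_mem hx ht₀.1, ?_, ?_⟩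
        · rw [mem_alternatingGroup, Subgroup.coe_mul, map_mul, h, ht₀.2.sign_eq]
          decide
        · rw [map_mul, pairHom_pair ⟨t₀, ht₀⟩, mul_one]
    have hn : pairHom P ⟨g, hs⟩ ∈
        Subgroup.normalizer ((Q : Subgroup (Perm (pairs P))) : Set _) := by
      rw [Subgroup.mem_normalizer_iff]
      intro y
      refine ⟨one_side ⟨g, hs⟩ (hconj g hg) y, fun h => ?_⟩
      have := one_side (⟨g, hs⟩⁻¹) (by simpa using hconj g⁻¹ hgi) _ h
      rw [show pairHom P ⟨g, hs⟩⁻¹ * (pairHom P ⟨g, hs⟩ * y * (pairHom P ⟨g, hs⟩)⁻¹) *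
        (pairHom P ⟨g, hs⟩⁻¹)⁻¹ = y by rw [map_inv]; group] at this
      exact this
    haveI : Fintype (pairs P) := Fintype.ofFinite _
    have ho' : Odd (orderOf (pairHom P ⟨g, hs⟩)) := by
      refine Odd.of_dvd_nat ?_ (orderOf_map_dvd (pairHom P) ⟨g, hs⟩)
      rw [Subgroup.orderOf_mk, Subgroup.orderOf_coe]
      exact ho
    have h1 := odd_order_normalizer_eq_one (P := Q) hn ho'
    have h2 := mul_self_of_pairHom_eq_one h1
    exact eq_one_of_sq_of_odd (Subtype.ext h2) ho
  have hN : IsPGroup 2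
      (Subgroup.normalizer ((R : Subgroup (alternatingGroup α)) : Set (alternatingGroup α))) := by
    intro g
    obtain ⟨k, m, hm, he⟩ := Nat.exists_eq_two_pow_mul_odd (orderOf_pos (g : alternatingGroup α)).ne'
    refine ⟨k, Subtype.ext ?_⟩
    rw [Subgroup.coe_pow, Subgroup.coe_one]
    apply hodd _ (pow_mem g.2 _)
    rw [orderOf_pow, he, Nat.gcd_mul_right_left, Nat.mul_div_cancel_left _ (by positivity)]
    exact hm
  exact R.3 hN Subgroup.le_normalizer

end CfsgLib.SylTwoSelf
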